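import Groth.Agent.CurvSt.K740.Emb
import Groth.Agent.Ega4fib.H172.FibDimBC
import Groth.Agent.AlgSt.K502.CI
import Groth.Agent.S1417
import Groth.Agent.S1616

/-!
# The scheme of embeddings of an embedded family of curves

Given a family `q : X ⟶ T` of curves embedded in `P^M`, the functor on `T`-schemes of embeddings of `X` into `P^N`
with `H¹(O(1)) = 0` on the fibres is represented by a scheme smooth over `T`.
-/

set_option autoImplicit false

universe u

open CategoryTheory CategoryTheory.Limits AlgebraicGeometry TopologicalSpace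
open K740.Emb K390.PnSec
open Groth.Agent.Dix.ProjProper

namespace K502.EmbScheme

/-! ## Products of projective spaces over the integers -/

theorem isIso_toZ (n : ℕ) : IsIso (toZ n (Spec (CommRingCat.of (ULift.{u} ℤ)))) := by
  have h : specULiftZIsTerminal.from (Spec (CommRingCat.of (ULift.{u} ℤ))) = 𝟙 _ :=
    specULiftZIsTerminal.hom_ext _ _
  have : IsIso (specULiftZIsTerminal.from (Spec (CommRingCat.of (ULift.{u} ℤ)))) := by
    rw [h]; infer_instance
  exact (isPullback_toZ n (Spec (CommRingCat.of (ULift.{u} ℤ)))).isIso_fst_of_isIso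

/-- `P^M ×_ℤ P^N` together with the Segre embedding. -/
theorem exists_segre (M N : ℕ) : ∃ (K : ℕ) (W : Scheme.{u}) (p₁ : W ⟶ PZ M) (p₂ : W ⟶ PZ N)
    (s : W ⟶ PZ K), IsClosedImmersion s ∧
      IsPullback p₁ p₂ (specULiftZIsTerminal.from (PZ M)) (specULiftZIsTerminal.from (PZ N)) := by
  obtain ⟨φ, hφ, -⟩ := Groth.Agent.S1616.result (Spec (CommRingCat.of (ULift.{u} ℤ))) M N
  have hM := isIso_toZ.{u} M
  have hN := isIso_toZ.{u} N
  have hK := isIso_toZ.{u} (M * N + M + N)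
  refine ⟨M * N + M + N, _, pullback.fst _ _ ≫ toZ M _, pullback.snd _ _ ≫ toZ N _, φ ≫ toZ _ _,
    inferInstance, ?_⟩
  have h := IsPullback.of_hasPullback
    (CohB1.ProjSpaceOver.toBase M (Spec (CommRingCat.of (ULift.{u} ℤ))))
    (CohB1.ProjSpaceOver.toBase N (Spec (CommRingCat.of (ULift.{u} ℤ))))
  refine IsPullback.of_iso h (Iso.refl _) (asIso (toZ M _)) (asIso (toZ N _)) (Iso.refl _) ?_ ?_ ?_ ?_
  · simp
  · simp
  · exact specULiftZIsTerminal.hom_ext _ _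
  · exact specULiftZIsTerminal.hom_ext _ _

/-! ## Embeddings: base change -/

theorem isPullback_liftP {N : ℕ} {W T : Scheme.{u}} (p : W ⟶ PZ N) :
    IsPullback (pullback.fst (specULiftZIsTerminal.from W) (specULiftZIsTerminal.from T))
      (liftP (pullback.fst (specULiftZIsTerminal.from W) (specULiftZIsTerminal.from T) ≫ p)
        (pullback.snd (specULiftZIsTerminal.from W) (specULiftZIsTerminal.from T))) p (toZ N T) := by
  refine IsPullback.of_bot ?_ (liftP_toZ _ _).symm (isPullback_toZ N T)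
  rw [liftP_toBase]
  have h : p ≫ CohB1.ProjSpace.toSpec N (ULift.{u} ℤ) = specULiftZIsTerminal.from W :=
    specULiftZIsTerminal.hom_ext _ _
  rw [h]
  exact IsPullback.of_hasPullback _ _

theorem isClosedImmersion_liftP {K N : ℕ} {W X T : Scheme.{u}} (p : W ⟶ PZ N) (s : W ⟶ PZ K)
    [IsClosedImmersion s] [IsSeparated p] (j : X ⟶ W) (q : X ⟶ T)
    (h : IsClosedImmersion (liftP (j ≫ p) q)) : IsClosedImmersion (liftP (j ≫ s) q) := by
  let jT : X ⟶ pullback (specULiftZIsTerminal.from W) (specULiftZIsTerminal.from T) :=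
    pullback.lift j q (specULiftZIsTerminal.hom_ext _ _)
  have key : ∀ {L : ℕ} (r : W ⟶ PZ L),
      jT ≫ liftP (pullback.fst (specULiftZIsTerminal.from W) (specULiftZIsTerminal.from T) ≫ r)
        (pullback.snd (specULiftZIsTerminal.from W) (specULiftZIsTerminal.from T)) =
        liftP (j ≫ r) q := by
    intro L r
    refine hom_ext_over ?_ ?_
    · rw [Category.assoc, liftP_toZ, liftP_toZ, pullback.lift_fst_assoc]
    · rw [Category.assoc, liftP_toBase, liftP_toBase, pullback.lift_snd]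
  have h1 : IsSeparated (liftP (pullback.fst (specULiftZIsTerminal.from W)
      (specULiftZIsTerminal.from T) ≫ p)
        (pullback.snd (specULiftZIsTerminal.from W) (specULiftZIsTerminal.from T))) :=
    MorphismProperty.of_isPullback (P := @IsSeparated) (isPullback_liftP p) inferInstance
  have h2 : IsClosedImmersion (liftP (pullback.fst (specULiftZIsTerminal.from W)
      (specULiftZIsTerminal.from T) ≫ s)
        (pullback.snd (specULiftZIsTerminal.from W) (specULiftZIsTerminal.from T))) :=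
    MorphismProperty.of_isPullback (P := @IsClosedImmersion) (isPullback_liftP s) inferInstance
  have h3 : IsClosedImmersion jT := by
    rw [← key p] at h
    exact IsClosedImmersion.of_comp (f := jT) (g := liftP (pullback.fst
      (specULiftZIsTerminal.from W) (specULiftZIsTerminal.from T) ≫ p) (pullback.snd _ _))
  rw [← key s]
  infer_instance

theorem isPullback_liftP_mapBase {X T X' T' : Scheme.{u}} {N : ℕ} {q : X ⟶ T} (j : X ⟶ PZ N)
    {a : X' ⟶ X} {q' : X' ⟶ T'} {t : T' ⟶ T} (sq : IsPullback a q' q t) :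
    IsPullback a (liftP (a ≫ j) q') (liftP j q) (mapBase N t) := by
  refine IsPullback.of_bot ?_ ?_ (isPullback_mapBase N t)
  · rw [liftP_toBase, liftP_toBase]; exact sq
  · refine hom_ext_over ?_ ?_
    · rw [Category.assoc, Category.assoc, liftP_toZ, mapBase_toZ, liftP_toZ]
    · rw [Category.assoc, Category.assoc, liftP_toBase, mapBase_toBase, ← Category.assoc,
        liftP_toBase, sq.w]

/-- Embedded families are stable under base change. -/
theorem isEmb_of_isPullback {X T X' T' : Scheme.{u}} {N : ℕ} {q : X ⟶ T} {j : X ⟶ PZ N}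
    {a : X' ⟶ X} {q' : X' ⟶ T'} {t : T' ⟶ T} (sq : IsPullback a q' q t) (h : IsEmb N q j) :
    IsEmb N q' (a ≫ j) := by
  have h1 := h.closed
  have h2 := h.flat
  have h3 := h.lfp
  have h4 : LocallyOfFinitePresentation q' :=
    MorphismProperty.of_isPullback (P := @LocallyOfFinitePresentation) sq h3
  refine ⟨MorphismProperty.of_isPullback (P := @IsClosedImmersion)
    (isPullback_liftP_mapBase j sq) h1, MorphismProperty.of_isPullback (P := @Flat) sq h2, h4,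
    fun x => ?_⟩
  rw [Groth.Agent.Ega4fib.H172.FibDimBC.fibreDimAt_of_isPullback sq x]
  exact h.dim _

theorem isProper_of_isEmb {X T : Scheme.{u}} {N : ℕ} {q : X ⟶ T} {j : X ⟶ PZ N}
    (h : IsEmb N q j) : IsProper q := by
  have h1 := h.closed
  rw [← liftP_toBase j q]
  infer_instance

/-- The locus of the base over which a morphism to projective space is a closed immersion. -/
theorem exists_opens_closed {X T : Scheme.{u}} {N : ℕ} (q : X ⟶ T) [IsProper q] (j : X ⟶ PZ N) :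
    ∃ U : T.Opens, ∀ {T' X' : Scheme.{u}} (t : T' ⟶ T) (a : X' ⟶ X) (q' : X' ⟶ T'),
      IsPullback a q' q t → (IsClosedImmersion (liftP (a ≫ j) q') ↔ Set.range t ⊆ (U : Set T)) := by
  have h : IsProper (liftP j q ≫ CohB1.ProjSpaceOver.toBase N T) := by
    rw [liftP_toBase]; infer_instance
  obtain ⟨U, hU⟩ := K502.CI.exists_opens_isClosedImmersion (liftP j q)
    (CohB1.ProjSpaceOver.toBase N T)
  exact ⟨U, fun t a q' sq => hU _ _ _ t _ _ a _ (isPullback_liftP_mapBase j sq)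
    (isPullback_mapBase N t)⟩

/-! ## The condition `H1van` -/

theorem subsingleton_HH_of_iso {X : Scheme.{u}} {M N : X.Modules} (e : M ≅ N) (p : ℕ)
    (h : Subsingleton (Coh.HH X M p)) : Subsingleton (Coh.HH X N p) := by
  let e' : Coh.toAb M ≅ Coh.toAb N := (SheafOfModules.toSheaf X.ringCatSheaf).mapIso e
  refine subsingleton_of_forall_eq 0 fun x ↦ ?_
  have h1 : x = Sheaf.H.map e'.hom p (Sheaf.H.map e'.inv p x) := by
    rw [← Sheaf.H.map_comp_apply, e'.inv_hom_id, Sheaf.H.map_id_apply]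
  rw [h1, h.elim (Sheaf.H.map e'.inv p x) 0, map_zero]

theorem H1van_of_iso {X T : Scheme.{u}} {q : X ⟶ T} {L L' : X.Modules} (e : L ≅ L')
    (h : H1van q L) : H1van q L' := fun k _ t Y i p sq =>
  subsingleton_HH_of_iso ((Scheme.Modules.pullback i).mapIso e) 1 (h k t Y i p sq)

theorem H1van_of_isPullback {X T X' T' : Scheme.{u}} {q : X ⟶ T} {L : X.Modules}
    {a : X' ⟶ X} {q' : X' ⟶ T'} {t : T' ⟶ T} (sq : IsPullback a q' q t) (h : H1van q L) :
    H1van q' ((Scheme.Modules.pullback a).obj L) := fun k _ t' Y i p sq' =>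
  subsingleton_HH_of_iso ((Scheme.Modules.pullbackComp i a).symm.app L) 1
    (h k (t' ≫ t) Y (i ≫ a) p (sq'.paste_horiz sq))

theorem H1van_O1p {X T X' T' : Scheme.{u}} {N : ℕ} {q : X ⟶ T} {j : X ⟶ PZ N}
    {a : X' ⟶ X} {q' : X' ⟶ T'} {t : T' ⟶ T} (sq : IsPullback a q' q t) (h : H1van q (O1p j)) :
    H1van q' (O1p (a ≫ j)) :=
  H1van_of_iso ((Scheme.Modules.pullbackComp a j).app _) (H1van_of_isPullback sq h)

/-- `H1van` only depends on the family over a closed subscheme with nilpotent ideal. -/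
theorem H1van_of_surjective {B B' : Type u} [CommRing B] [CommRing B'] (φ : B' →+* B)
    (hφ : Function.Surjective φ) (hk : ∀ b, φ b = 0 → IsNilpotent b) {X X' : Scheme.{u}}
    {q : X ⟶ Spec (CommRingCat.of B)} {q' : X' ⟶ Spec (CommRingCat.of B')} {i : X ⟶ X'}
    (sq : IsPullback i q q' (Spec.map (CommRingCat.ofHom φ))) {L : X'.Modules}
    (h : H1van q ((Scheme.Modules.pullback i).obj L)) : H1van q' L := by
  intro k _ t Y a p sqY
  obtain ⟨ψ, rfl⟩ := Spec.map_surjective t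
  have h1 : ∀ b, φ b = 0 → ψ.hom b = 0 := fun b hb => ((hk b hb).map ψ.hom).eq_zero
  let χ : B →+* k := (Ideal.Quotient.lift (RingHom.ker φ) ψ.hom fun b hb => h1 b hb).comp
    (RingHom.quotientKerEquivOfSurjective hφ).symm.toRingHom
  have hχ : χ.comp φ = ψ.hom := by
    ext b
    have : (RingHom.quotientKerEquivOfSurjective hφ).symm (φ b) = Ideal.Quotient.mk _ b := by
      rw [RingEquiv.symm_apply_eq]; rfl
    change Ideal.Quotient.lift (RingHom.ker φ) ψ.hom (fun b hb => h1 b hb)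
      ((RingHom.quotientKerEquivOfSurjective hφ).symm (φ b)) = _
    rw [this]
    rfl
  have h2 : Spec.map (CommRingCat.ofHom χ) ≫ Spec.map (CommRingCat.ofHom φ) = Spec.map ψ := by
    rw [← Spec.map_comp, ← CommRingCat.ofHom_comp, hχ]
    rfl
  have sq2 : IsPullback (sq.lift a (p ≫ Spec.map (CommRingCat.ofHom χ))
      (by rw [sqY.w, Category.assoc, h2])) p q (Spec.map (CommRingCat.ofHom χ)) := by
    refine IsPullback.of_right ?_ (sq.lift_snd _ _ _) sq
    rw [sq.lift_fst, h2]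
    exact sqY
  have h3 := h k _ Y _ p sq2
  refine subsingleton_HH_of_iso ((Scheme.Modules.pullbackComp _ _).app L ≪≫
    (Scheme.Modules.pullbackCongr (sq.lift_fst _ _ _)).app L) 1 h3

/-! ## Hilbert schemes of embedded curves -/

/-- A Hilbert scheme of curves in the closed subscheme `W` of `P^K`. -/
structure Hilb {W : Scheme.{u}} {K : ℕ} (s : W ⟶ PZ K) where
  H : Scheme.{u}
  Z : Scheme.{u}
  q : Z ⟶ H
  j : Z ⟶ W
  lft : LocallyOfFiniteType (specULiftZIsTerminal.from H)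
  emb : IsEmb K q (j ≫ s)
  univ : ∀ {T X : Scheme.{u}} (q' : X ⟶ T) (j' : X ⟶ W), IsEmb K q' (j' ≫ s) →
    ∃! g : T ⟶ H, ∃ i : X ⟶ Z, IsPullback i q' q g ∧ i ≫ j = j'

/-- Two families of pairs of embeddings. -/
theorem hom_ext_of_isEmb {X T Y : Scheme.{u}} {N : ℕ} {q : X ⟶ T} {j : X ⟶ PZ N} (h : IsEmb N q j)
    {a b : Y ⟶ X} (h1 : a ≫ q = b ≫ q) (h2 : a ≫ j = b ≫ j) : a = b := by
  have := h.closed
  rw [← cancel_mono (liftP j q)]
  refine hom_ext_over ?_ ?_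
  · rw [Category.assoc, Category.assoc, liftP_toZ, h2]
  · rw [Category.assoc, Category.assoc, liftP_toBase, h1]

/-- The interface (P4): openness of the vanishing of `H¹`. -/
def P4Stmt : Prop := ∀ {X T : Scheme.{u}} [IsLocallyNoetherian T] (q : X ⟶ T) [IsProper q] [Flat q]
  (_ : ∀ x : X, FlatMor.fibreDimAt q x ≤ 1) (L : X.Modules) (_ : PicF.IsInvertible L),
  ∃ U : T.Opens, ∀ (T' X' : Scheme.{u}) (g : T' ⟶ T) (g' : X' ⟶ X) (q' : X' ⟶ T'),
    IsPullback g' q' q g →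
      (H1van q' ((Scheme.Modules.pullback g').obj L) ↔ Set.range g ⊆ (U : Set T))

/-- The interface (P2): Hilbert schemes of embedded curves. -/
def P2Stmt : Prop := ∀ {W : Scheme.{u}} (K : ℕ) (s : W ⟶ PZ K) [IsClosedImmersion s],
  ∃ (H Z : Scheme.{u}) (qH : Z ⟶ H) (jH : Z ⟶ W),
    LocallyOfFiniteType (specULiftZIsTerminal.from H) ∧ IsEmb K qH (jH ≫ s) ∧
      ∀ {T X : Scheme.{u}} (q : X ⟶ T) (j : X ⟶ W), IsEmb K q (j ≫ s) →
        ∃! g : T ⟶ H, ∃ i : X ⟶ Z, IsPullback i q qH g ∧ i ≫ jH = j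

theorem P2Stmt.nonempty (h : P2Stmt.{u}) {W : Scheme.{u}} {K : ℕ} (s : W ⟶ PZ K)
    [IsClosedImmersion s] : Nonempty (Hilb s) := by
  obtain ⟨H, Z, q, j, h1, h2, h3⟩ := h K s
  exact ⟨⟨H, Z, q, j, h1, h2, h3⟩⟩

theorem isLocallyNoetherian_Z : IsLocallyNoetherian (Spec (CommRingCat.of (ULift.{u} ℤ))) := by
  have : IsNoetherianRing (ULift.{u} ℤ) := isNoetherianRing_of_ringEquiv ℤ ULift.ringEquiv.symm
  have : IsNoetherianRing (CommRingCat.of (ULift.{u} ℤ)) := this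
  infer_instance

/-- The moduli scheme of curves with an embedding into `P^M` and an embedding into `P^N` such that
`H¹(O(1)) = 0` for the second one. -/
theorem exists_moduli (h2 : P2Stmt.{u}) (h4 : P4Stmt.{u}) (M N : ℕ) :
    ∃ (V Z : Scheme.{u}) (q : Z ⟶ V) (j₁ : Z ⟶ PZ M) (j₂ : Z ⟶ PZ N),
      LocallyOfFiniteType (specULiftZIsTerminal.from V) ∧ IsEmb M q j₁ ∧ IsEmb N q j₂ ∧
      H1van q (O1p j₂) ∧ ∀ {T X : Scheme.{u}} (q' : X ⟶ T) (j₁' : X ⟶ PZ M) (j₂' : X ⟶ PZ N),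
        IsEmb M q' j₁' → IsEmb N q' j₂' → H1van q' (O1p j₂') →
          ∃! g : T ⟶ V, ∃ i : X ⟶ Z, IsPullback i q' q g ∧ i ≫ j₁ = j₁' ∧ i ≫ j₂ = j₂' := by
  obtain ⟨K, W, p₁, p₂, s, hs, hW⟩ := exists_segre.{u} M N
  obtain ⟨𝓗⟩ := h2.nonempty s
  have hlft := 𝓗.lft
  have hZ : IsLocallyNoetherian (Spec (CommRingCat.of (ULift.{u} ℤ))) := isLocallyNoetherian_Z
  have hnoeth : IsLocallyNoetherian 𝓗.H :=
    LocallyOfFiniteType.isLocallyNoetherian (specULiftZIsTerminal.from 𝓗.H)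
  have hpr : IsProper 𝓗.q := isProper_of_isEmb 𝓗.emb
  have hfl : Flat 𝓗.q := 𝓗.emb.flat
  obtain ⟨U₁, hU₁⟩ := exists_opens_closed 𝓗.q (𝓗.j ≫ p₁)
  obtain ⟨U₂, hU₂⟩ := exists_opens_closed 𝓗.q (𝓗.j ≫ p₂)
  obtain ⟨U₃, hU₃⟩ := h4 𝓗.q 𝓗.emb.dim (O1p (𝓗.j ≫ p₂))
    (Groth.Agent.Fdesc.LocGen.isInvertible_pullback _ (isInvertible_O1 N _))
  let V : 𝓗.H.Opens := U₁ ⊓ U₂ ⊓ U₃
  have hp₁ : IsSeparated p₁ := by
    have : IsSeparated (specULiftZIsTerminal.from (PZ.{u} N)) := by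
      have h : specULiftZIsTerminal.from (PZ.{u} N) =
        CohB1.ProjSpace.toSpec N (ULift.{u} ℤ) := specULiftZIsTerminal.hom_ext _ _
      rw [h]; infer_instance
    exact MorphismProperty.of_isPullback (P := @IsSeparated) hW.flip this
  have hp₂ : IsSeparated p₂ := by
    have : IsSeparated (specULiftZIsTerminal.from (PZ.{u} M)) := by
      have h : specULiftZIsTerminal.from (PZ.{u} M) =
        CohB1.ProjSpace.toSpec M (ULift.{u} ℤ) := specULiftZIsTerminal.hom_ext _ _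
      rw [h]; infer_instance
    exact MorphismProperty.of_isPullback (P := @IsSeparated) hW this
  have hVr : Set.range V.ι = (V : Set 𝓗.H) := Scheme.Opens.range_ι V
  have sqV := IsPullback.of_hasPullback 𝓗.q V.ι
  have hle₁ : Set.range V.ι ⊆ (U₁ : Set 𝓗.H) := hVr.le.trans fun x hx => hx.1.1
  have hle₂ : Set.range V.ι ⊆ (U₂ : Set 𝓗.H) := hVr.le.trans fun x hx => hx.1.2
  have hle₃ : Set.range V.ι ⊆ (U₃ : Set 𝓗.H) := hVr.le.trans fun x hx => hx.2
  have hembV := isEmb_of_isPullback sqV 𝓗.emb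
  have e₁ : IsEmb M (pullback.snd 𝓗.q V.ι) (pullback.fst 𝓗.q V.ι ≫ 𝓗.j ≫ p₁) :=
    ⟨(hU₁ _ _ _ sqV).mpr hle₁, hembV.flat, hembV.lfp, hembV.dim⟩
  have e₂ : IsEmb N (pullback.snd 𝓗.q V.ι) (pullback.fst 𝓗.q V.ι ≫ 𝓗.j ≫ p₂) :=
    ⟨(hU₂ _ _ _ sqV).mpr hle₂, hembV.flat, hembV.lfp, hembV.dim⟩
  have e₃ : H1van (pullback.snd 𝓗.q V.ι) (O1p (pullback.fst 𝓗.q V.ι ≫ 𝓗.j ≫ p₂)) :=
    H1van_of_iso ((Scheme.Modules.pullbackComp _ _).app _) ((hU₃ _ _ _ _ _ sqV).mpr hle₃)
  refine ⟨V, _, pullback.snd 𝓗.q V.ι, pullback.fst 𝓗.q V.ι ≫ 𝓗.j ≫ p₁,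
    pullback.fst 𝓗.q V.ι ≫ 𝓗.j ≫ p₂, ?_, e₁, e₂, e₃, ?_⟩
  · have h : specULiftZIsTerminal.from (V : Scheme.{u}) = V.ι ≫ specULiftZIsTerminal.from 𝓗.H :=
      specULiftZIsTerminal.hom_ext _ _
    rw [h]
    infer_instance
  · intro T X q' j₁' j₂' h₁ h₂ h₃
    let j' : X ⟶ W := hW.lift j₁' j₂' (specULiftZIsTerminal.hom_ext _ _)
    have hj₁ : j' ≫ p₁ = j₁' := hW.lift_fst _ _ _
    have hj₂ : j' ≫ p₂ = j₂' := hW.lift_snd _ _ _
    have hj' : IsEmb K q' (j' ≫ s) := by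
      refine ⟨isClosedImmersion_liftP p₁ s j' q' ?_, h₁.flat, h₁.lfp, h₁.dim⟩
      rw [hj₁]; exact h₁.closed
    obtain ⟨g, ⟨i, sq, hi⟩, hg⟩ := 𝓗.univ q' j' hj'
    have hi₁ : i ≫ 𝓗.j ≫ p₁ = j₁' := by rw [← Category.assoc, hi, hj₁]
    have hi₂ : i ≫ 𝓗.j ≫ p₂ = j₂' := by rw [← Category.assoc, hi, hj₂]
    have hr : Set.range g ⊆ Set.range V.ι := by
      rw [hVr]
      intro x hx
      refine ⟨⟨(hU₁ _ _ _ sq).mp ?_ hx, (hU₂ _ _ _ sq).mp ?_ hx⟩, (hU₃ _ _ _ _ _ sq).mp ?_ hx⟩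
      · rw [hi₁]; exact h₁.closed
      · rw [hi₂]; exact h₂.closed
      · refine H1van_of_iso ?_ h₃
        exact (Scheme.Modules.pullbackCongr hi₂.symm).app _ ≪≫
          ((Scheme.Modules.pullbackComp _ _).app _).symm
    let g' : T ⟶ V := IsOpenImmersion.lift V.ι g hr
    have hg' : g' ≫ V.ι = g := IsOpenImmersion.lift_fac _ _ _
    have hw : i ≫ 𝓗.q = (q' ≫ g') ≫ V.ι := by rw [Category.assoc, hg', sq.w]
    refine ⟨g', ⟨pullback.lift i (q' ≫ g') hw, ?_, ?_, ?_⟩, ?_⟩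
    · refine IsPullback.of_right ?_ (pullback.lift_snd _ _ _) sqV
      rw [pullback.lift_fst, hg']
      exact sq
    · rw [pullback.lift_fst_assoc, hi₁]
    · rw [pullback.lift_fst_assoc, hi₂]
    · rintro g₁ ⟨i₁, sq₁, hi₁', hi₂'⟩
      rw [← cancel_mono V.ι, hg']
      refine hg _ ⟨i₁ ≫ pullback.fst 𝓗.q V.ι, sq₁.paste_horiz sqV, ?_⟩
      refine hW.hom_ext ?_ ?_
      · rw [hj₁, ← hi₁']; simp only [Category.assoc]
      · rw [hj₂, ← hi₂']; simp only [Category.assoc]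

/-- The interface (P5): lifting of embeddings along small extensions. -/
def P5Stmt : Prop := ∀ (N : ℕ) (B B' : Type u) [CommRing B] [CommRing B'] [IsArtinianRing B]
  [IsArtinianRing B'] [IsLocalRing B] [IsLocalRing B'] (φ : B' →+* B) (ε : B')
  (_ : Function.Surjective φ) (_ : RingHom.ker φ = Ideal.span {ε})
  (_ : ∀ m ∈ IsLocalRing.maximalIdeal B', ε * m = 0) {X X' : Scheme.{u}}
  (q' : X' ⟶ Spec (CommRingCat.of B')) [IsProper q'] [Flat q']
  (_ : ∀ x : X', FlatMor.fibreDimAt q' x ≤ 1) (q : X ⟶ Spec (CommRingCat.of B)) (i : X ⟶ X')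
  (_ : IsPullback i q q' (Spec.map (CommRingCat.ofHom φ))) (j : X ⟶ PZ N)
  (_ : IsClosedImmersion (liftP j q)) (_ : H1van q (O1p j)),
  ∃ j' : X' ⟶ PZ N, IsClosedImmersion (liftP j' q') ∧ i ≫ j' = j

/-- the kernel of a small extension is nilpotent -/
theorem isNilpotent_of_small {B B' : Type u} [CommRing B] [CommRing B'] [IsLocalRing B]
    [IsLocalRing B'] (φ : B' →+* B) (ε : B') (hk : RingHom.ker φ = Ideal.span {ε})
    (hε : ∀ m ∈ IsLocalRing.maximalIdeal B', ε * m = 0) (b : B') (hb : φ b = 0) :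
    IsNilpotent b := by
  have h1 : ∀ c, φ c = 0 → c ∈ IsLocalRing.maximalIdeal B' := by
    intro c hc
    by_contra h
    have hu : IsUnit c := by simpa using h
    have := hu.map φ
    rw [hc] at this
    exact not_isUnit_zero this
  have h2 : b ∈ Ideal.span {ε} := by rw [← hk]; exact hb
  obtain ⟨c, rfl⟩ := Ideal.mem_span_singleton.mp h2
  refine ⟨2, ?_⟩
  have h3 := hε _ (h1 _ hb)
  calc (ε * c) ^ 2 = ε * (ε * c) * c := by ring
    _ = 0 := by rw [h3, zero_mul]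

/-- **The scheme of embeddings.** -/
theorem exists_of_stmts (h2 : P2Stmt.{u}) (h4 : P4Stmt.{u}) (h5 : P5Stmt.{u}) {T X : Scheme.{u}}
    (M : ℕ) (q : X ⟶ T) (r : X ⟶ PZ M) (hr : IsEmb M q r) (N : ℕ) :
    ∃ (E XE : Scheme.{u}) (e : E ⟶ T) (a : XE ⟶ X) (qE : XE ⟶ E) (jE : XE ⟶ PZ N),
      Smooth e ∧ IsPullback a qE q e ∧ IsEmb N qE jE ∧ H1van qE (O1p jE) ∧
      ∀ {T' X' : Scheme.{u}} (t : T' ⟶ T) (a' : X' ⟶ X) (q' : X' ⟶ T')
        (_ : IsPullback a' q' q t) (j : X' ⟶ PZ N), IsEmb N q' j → H1van q' (O1p j) →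
          ∃! g : T' ⟶ E, g ≫ e = t ∧ ∃ b : X' ⟶ XE, b ≫ a = a' ∧ b ≫ qE = q' ≫ g ∧
            b ≫ jE = j := by
  obtain ⟨𝓜⟩ := h2.nonempty (𝟙 (PZ.{u} M))
  obtain ⟨V, Z, p, j₁, j₂, hV, e₁, e₂, e₃, huniv⟩ := exists_moduli h2 h4 M N
  have hlft := 𝓜.lft
  have hZ : IsLocallyNoetherian (Spec (CommRingCat.of (ULift.{u} ℤ))) := isLocallyNoetherian_Z
  have hnoeth : IsLocallyNoetherian 𝓜.H :=
    LocallyOfFiniteType.isLocallyNoetherian (specULiftZIsTerminal.from 𝓜.H)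
  have hid : ∀ {Y : Scheme.{u}} (j : Y ⟶ PZ M), j ≫ 𝟙 _ = j := fun j => Category.comp_id j
  obtain ⟨v, ⟨iv, sqv, hiv⟩, hv⟩ := 𝓜.univ p j₁ (by rw [hid]; exact e₁)
  obtain ⟨c, ⟨ic, sqc, hic⟩, hc⟩ := 𝓜.univ q r (by rw [hid]; exact hr)
  have h𝓜 : IsEmb M 𝓜.q 𝓜.j := by have := 𝓜.emb; rwa [hid] at this
  have hvft : LocallyOfFiniteType v := by
    have h : specULiftZIsTerminal.from V = v ≫ specULiftZIsTerminal.from 𝓜.H :=
      specULiftZIsTerminal.hom_ext _ _
    rw [h] at hV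
    exact locallyOfFiniteType_of_comp v (specULiftZIsTerminal.from 𝓜.H)
  have hsm : Smooth v := by
    rw [Groth.Agent.S1417.result]
    intro B B' _ _ _ _ _ _ φ ε hφ hk hε α β _ hαβ
    have sqβ := IsPullback.of_hasPullback 𝓜.q β
    have sqα := IsPullback.of_hasPullback p α
    have hβ := isEmb_of_isPullback sqβ h𝓜
    have hα₁ := isEmb_of_isPullback sqα e₁
    have hα₂ := isEmb_of_isPullback sqα e₂
    have hα₃ := H1van_O1p sqα e₃
    have hw : (pullback.fst p α ≫ iv) ≫ 𝓜.q =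
        (pullback.snd p α ≫ Spec.map (CommRingCat.ofHom φ)) ≫ β := by
      rw [Category.assoc, sqv.w, ← Category.assoc, sqα.w, Category.assoc, Category.assoc, hαβ]
    let i : pullback p α ⟶ pullback 𝓜.q β := pullback.lift (pullback.fst p α ≫ iv)
      (pullback.snd p α ≫ Spec.map (CommRingCat.ofHom φ)) hw
    have hi₁ : i ≫ pullback.fst 𝓜.q β = pullback.fst p α ≫ iv := pullback.lift_fst _ _ _
    have sqi : IsPullback i (pullback.snd p α) (pullback.snd 𝓜.q β)
        (Spec.map (CommRingCat.ofHom φ)) := by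
      refine IsPullback.of_right ?_ (pullback.lift_snd _ _ _) sqβ
      rw [hi₁, hαβ]
      exact sqα.paste_horiz sqv
    have hpr : IsProper (pullback.snd 𝓜.q β) := isProper_of_isEmb hβ
    have hfl : Flat (pullback.snd 𝓜.q β) := hβ.flat
    obtain ⟨j', hj', hij'⟩ := h5 N B B' φ ε hφ hk hε _ hβ.dim _ i sqi _ hα₂.closed hα₃
    have hnil := isNilpotent_of_small φ ε hk hε
    have hemb' : IsEmb N (pullback.snd 𝓜.q β) j' := ⟨hj', hβ.flat, hβ.lfp, hβ.dim⟩
    have hvan' : H1van (pullback.snd 𝓜.q β) (O1p j') := by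
      refine H1van_of_surjective φ hφ hnil sqi (H1van_of_iso ?_ hα₃)
      exact (Scheme.Modules.pullbackCongr hij'.symm).app _ ≪≫
        ((Scheme.Modules.pullbackComp _ _).app _).symm
    obtain ⟨γ, ⟨iγ, sqγ, hγ₁, hγ₂⟩, -⟩ := huniv (pullback.snd 𝓜.q β) (pullback.fst 𝓜.q β ≫ 𝓜.j)
      j' hβ hemb' hvan'
    refine ⟨γ, ?_, ?_⟩
    · refine (huniv (pullback.snd p α) (pullback.fst p α ≫ j₁) (pullback.fst p α ≫ j₂) hα₁ hα₂
        hα₃).unique ⟨i ≫ iγ, sqi.paste_horiz sqγ, ?_, ?_⟩ ⟨_, sqα, rfl, rfl⟩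
      · rw [Category.assoc, hγ₁, ← Category.assoc, hi₁, Category.assoc, hiv]
      · rw [Category.assoc, hγ₂, hij']
    · refine (𝓜.univ (pullback.snd 𝓜.q β) (pullback.fst 𝓜.q β ≫ 𝓜.j) (by rw [hid]; exact hβ)).unique
        ⟨iγ ≫ iv, sqγ.paste_horiz sqv, ?_⟩ ⟨_, sqβ, rfl⟩
      rw [Category.assoc, hiv, hγ₁]
  -- the scheme `E`
  have sqE := IsPullback.of_hasPullback v c
  have sqX := IsPullback.of_hasPullback q (pullback.snd v c)
  have hwZ : (pullback.fst q (pullback.snd v c) ≫ ic) ≫ 𝓜.q =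
      (pullback.snd q (pullback.snd v c) ≫ pullback.fst v c) ≫ v := by
    rw [Category.assoc, sqc.w, ← Category.assoc, sqX.w, Category.assoc, Category.assoc, ← sqE.w]
  let bV : pullback q (pullback.snd v c) ⟶ Z := sqv.lift
    (pullback.fst q (pullback.snd v c) ≫ ic)
    (pullback.snd q (pullback.snd v c) ≫ pullback.fst v c) hwZ
  have hbV₁ : bV ≫ iv = pullback.fst q (pullback.snd v c) ≫ ic := sqv.lift_fst _ _ _
  have hbV₂ : bV ≫ p = pullback.snd q (pullback.snd v c) ≫ pullback.fst v c := sqv.lift_snd _ _ _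
  have sqZ : IsPullback bV (pullback.snd q (pullback.snd v c)) p (pullback.fst v c) := by
    refine IsPullback.of_right ?_ hbV₂ sqv
    rw [hbV₁, sqE.w]
    exact sqX.paste_horiz sqc
  refine ⟨pullback v c, pullback q (pullback.snd v c), pullback.snd v c, pullback.fst _ _,
    pullback.snd _ _, bV ≫ j₂, inferInstance, sqX, isEmb_of_isPullback sqZ e₂,
    H1van_O1p sqZ e₃, ?_⟩
  intro T' X' t a' q' sq j hj hj3
  have ha' := isEmb_of_isPullback sq hr
  obtain ⟨g, ⟨i, sqg, hg₁, hg₂⟩, hg⟩ := huniv q' (a' ≫ r) j ha' hj hj3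
  have hgt : g ≫ v = t ≫ c := by
    refine (𝓜.univ q' (a' ≫ r) (by rw [hid]; exact ha')).unique
      ⟨i ≫ iv, sqg.paste_horiz sqv, ?_⟩ ⟨a' ≫ ic, sq.paste_horiz sqc, ?_⟩
    · rw [Category.assoc, hiv, hg₁]
    · rw [Category.assoc, hic]
  have hgE : pullback.lift g t hgt ≫ pullback.snd v c = t := pullback.lift_snd _ _ _
  have hgV : pullback.lift g t hgt ≫ pullback.fst v c = g := pullback.lift_fst _ _ _
  have hwb : a' ≫ q = (q' ≫ pullback.lift g t hgt) ≫ pullback.snd v c := by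
    rw [Category.assoc, hgE, sq.w]
  refine ⟨pullback.lift g t hgt, ⟨hgE, pullback.lift a' (q' ≫ pullback.lift g t hgt) hwb,
    pullback.lift_fst _ _ _, pullback.lift_snd _ _ _, ?_⟩, ?_⟩
  · have key : pullback.lift a' (q' ≫ pullback.lift g t hgt) hwb ≫ bV = i := by
      refine sqv.hom_ext ?_ ?_
      · rw [Category.assoc, hbV₁, pullback.lift_fst_assoc]
        refine hom_ext_of_isEmb h𝓜 ?_ ?_
        · rw [Category.assoc, Category.assoc, sqc.w, sqv.w, ← Category.assoc, sq.w,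
            ← Category.assoc i, sqg.w, Category.assoc, Category.assoc, hgt]
        · rw [Category.assoc, Category.assoc, hic, hiv, hg₁]
      · rw [Category.assoc, hbV₂, pullback.lift_snd_assoc, Category.assoc, hgV, sqg.w]
    rw [← Category.assoc, key, hg₂]
  · rintro g₁ ⟨hg₁e, b, hb₁, hb₂, hb₃⟩
    refine pullback.hom_ext ?_ ?_
    · rw [hgV]
      have sqb : IsPullback b q' (pullback.snd q (pullback.snd v c)) g₁ := by
        refine IsPullback.of_right ?_ hb₂ sqX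
        rw [hb₁, hg₁e]
        exact sq
      refine hg _ ⟨b ≫ bV, sqb.paste_horiz sqZ, ?_, ?_⟩
      · rw [← hiv, Category.assoc, ← Category.assoc bV, hbV₁, Category.assoc, hic,
          ← Category.assoc, hb₁]
      · rw [Category.assoc, hb₃]
    · rw [hg₁e, hgE]

end K502.EmbScheme
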