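import Groth.Agent.CurvSt.K502.EmbScheme
import Groth.Agent.CurvSt.K740.Hilb
import Groth.Agent.CurvSt.K136.LiftSmall
import Groth.Agent.CurvSt.K139.OpensH1

/-!
# The scheme of embeddings of an embedded family of curves: the unconditional statement
-/

set_option autoImplicit false

universe u

open CategoryTheory CategoryTheory.Limits AlgebraicGeometry TopologicalSpace
open K740.Emb K390.PnSec

namespace K502.EmbScheme

theorem p2 : P2Stmt.{u} := fun K s _ => K740.Hilb.exists_hilb K s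

theorem p4 : P4Stmt.{u} := fun q _ _ hdim L hL =>
  K139.OpensH1.exists_opens_H1van q hdim L hL

theorem p5 : P5Stmt.{u} := fun N B B' _ _ _ _ _ _ φ ε hφ hk hε _ _ q' _ _ hdim q i sq j hj h1 =>
  K136.LiftSmall.exists_lift_small N B B' φ ε hφ hk hε q' hdim q i sq j hj h1

/-- **The scheme of embeddings.** -/
theorem exists_embScheme {T X : Scheme.{u}}
    (M : ℕ) (q : X ⟶ T) (r : X ⟶ PZ M) (hr : IsEmb M q r) (N : ℕ) :
    ∃ (E XE : Scheme.{u}) (e : E ⟶ T) (a : XE ⟶ X) (qE : XE ⟶ E) (jE : XE ⟶ PZ N),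
      Smooth e ∧ IsPullback a qE q e ∧ IsEmb N qE jE ∧ H1van qE (O1p jE) ∧
      ∀ {T' X' : Scheme.{u}} (t : T' ⟶ T) (a' : X' ⟶ X) (q' : X' ⟶ T')
        (_ : IsPullback a' q' q t) (j : X' ⟶ PZ N), IsEmb N q' j → H1van q' (O1p j) →
          ∃! g : T' ⟶ E, g ≫ e = t ∧ ∃ b : X' ⟶ XE, b ≫ a = a' ∧ b ≫ qE = q' ≫ g ∧
            b ≫ jE = j :=
  exists_of_stmts p2 p4 p5 M q r hr N

end K502.EmbScheme
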